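import Groth.Agent.GVan16.SuppDim
import Groth.Prelude.Def_CohB1
import Mathlib.AlgebraicGeometry.Properties
import Mathlib.AlgebraicGeometry.Noetherian

/-!
# Vanishing above the dimension of the support on Noetherian schemes
-/

set_option autoImplicit false
set_option linter.all false

universe u

open CategoryTheory CategoryTheory.Limits Opposite TopologicalSpace AlgebraicGeometry

namespace Groth.Agent.GVan16

variable {Y : Scheme.{u}}

/-- The closure of a point of codimension at least `m` has dimension at most `g - m`. -/
theorem dim_closure_le (g : ℕ) (hg : topologicalKrullDim Y ≤ (g : WithBot ℕ∞)) (y : Y) (m : ℕ)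
    (hm : (m : WithBot ℕ∞) ≤ ringKrullDim (Y.presheaf.stalk y)) :
    topologicalKrullDim (closure ({y} : Set Y)) ≤ ((g - m : ℕ) : WithBot ℕ∞) := by
  rw [ringKrullDim_stalk_eq_coheight] at hm
  have hm' : (m : ℕ∞) ≤ Order.coheight y := by exact_mod_cast hm
  haveI : Nonempty Y := ⟨y⟩
  have hY : Order.krullDim Y ≤ (g : WithBot ℕ∞) := by
    refine le_trans (iSup_le fun p => le_dim_of_chain p.length p fun i j hij => ?_) hg
    exact ⟨(p.strictMono hij).le, fun e => absurd (p.strictMono hij) (e ▸ lt_irrefl _)⟩
  rw [Order.krullDim_eq_iSup_height_add_coheight_of_nonempty] at hY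
  have hsum : Order.height y + Order.coheight y ≤ (g : ℕ∞) :=
    le_trans (le_iSup (fun a : Y => Order.height a + Order.coheight a) y) (by exact_mod_cast hY)
  haveI : QuasiSober ↥(closure ({y} : Set Y)) := isClosed_closure.isClosedEmbedding_subtypeVal.quasiSober
  refine dim_le_of_chains _ fun n l hl => ?_
  have hn : (n : ℕ∞) ≤ Order.height y := by
    refine Order.length_le_height (p := LTSeries.mk n (fun i => (l i : Y)) fun i j hij => ?_) ?_
    · refine lt_of_le_not_ge ((hl i j hij).1.map continuous_subtype_val) fun h => ?_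
      exact (hl i j hij).2 (Subtype.ext (((hl i j hij).1.map continuous_subtype_val).antisymm h).eq.symm)
    · exact specializes_iff_mem_closure.2 (l (Fin.last n)).2
  have h : ((n + m : ℕ) : ℕ∞) ≤ (g : ℕ∞) := by
    push_cast
    exact le_trans (add_le_add hn hm') hsum
  have h' : n + m ≤ g := by exact_mod_cast h
  exact_mod_cast (show n ≤ g - m by omega)

/-- Vanishing above the dimension of the support. -/
theorem subsingleton_HH_of_support [IsNoetherian Y] (M : Y.Modules) (r : ℕ)
    (h : ∀ y ∈ CohB1.support M, topologicalKrullDim (closure ({y} : Set Y)) ≤ (r : WithBot ℕ∞))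
    (p : ℕ) (hp : r < p) : Subsingleton (Coh.HH Y M p) :=
  haveI : NoetherianSpace Y.toTopCat := (inferInstance : NoetherianSpace Y)
  haveI : QuasiSober Y.toTopCat := (inferInstance : QuasiSober Y)
  haveI : T0Space Y.toTopCat := (inferInstance : T0Space Y)
  subsingleton_H_of_small_support (X := Y.toTopCat) (Coh.toAb M) r
    (fun U x hx s hs => h x fun hsub => hs (@Subsingleton.elim _ hsub _ _)) p hp

end Groth.Agent.GVan16
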