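import Groth.Agent.GVan16.Tools
import Groth.Agent.TopIrr16.ConstIrr
import Groth.Agent.SiteCoh.Space

/-!
# Grothendieck's vanishing theorem on Noetherian spaces
-/

set_option autoImplicit false
set_option linter.all false
set_option synthInstance.maxHeartbeats 1000000
set_option maxHeartbeats 2000000

universe u

open CategoryTheory CategoryTheory.Limits CategoryTheory.Abelian Opposite TopologicalSpace
open Groth.Agent.SiteCoh Groth.Agent.SiteCoh.Closed

namespace Groth.Agent.GVan16

variable {X : TopCat.{u}}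

local notation "J" => Opens.grothendieckTopology X

/-- The constant sheaf of integers. -/
noncomputable abbrev ZC (X : TopCat.{u}) : CohTop.Ab X := CohTop.const X (ULift.{u} ℤ)

/-- The free sheaf on an open to the constant sheaf. -/
noncomputable def gU (U : Opens X) : CohCx.freeSheaf J U ⟶ ZC X :=
  (homEquiv U (ZC X)).symm (TopIrr16.cst (ULift.{u} ℤ) U ⟨1⟩)

theorem gU_eq {U V : Opens X} (h : V ≤ U) : CohCx.freeSheafMap J (homOfLE h) ≫ gU U = gU V := by
  refine (homEquiv V (ZC X)).injective ?_
  rw [homEquiv_precomp, gU, gU, AddEquiv.apply_symm_apply, AddEquiv.apply_symm_apply]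
  exact TopIrr16.res_cst (ULift.{u} ℤ) h _

/-- The free presheaf on the whole space is constant. -/
noncomputable def freeTopPsh :
    freePsh (⊤ : Opens X) ≅ (Functor.const (Opens X)ᵒᵖ).obj (AddCommGrpCat.of (ULift.{u} ℤ)) :=
  NatIso.ofComponents (fun V => AddEquiv.toAddCommGrpIso
    { toFun := FreeAbelianGroup.lift fun _ => (⟨1⟩ : ULift.{u} ℤ)
      invFun := fun n => n.down • FreeAbelianGroup.of (homOfLE le_top : V.unop ⟶ ⊤)
      left_inv := fun x => by
        induction x using FreeAbelianGroup.induction_on with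
        | zero => simp
        | of f =>
          rw [FreeAbelianGroup.lift_apply_of]
          simp only [one_smul]
          exact congrArg _ (Subsingleton.elim _ _)
        | neg f h =>
          rw [map_neg]
          beta_reduce at h ⊢
          exact (congrArg (fun m : ℤ => m • _) ULift.neg_down).trans ((neg_smul _ _).trans (congrArg Neg.neg h))
        | add a b ha hb =>
          rw [map_add]
          beta_reduce at ha hb ⊢
          exact (congrArg (fun m : ℤ => m • _) ULift.add_down).trans ((add_smul _ _ _).trans (congrArg₂ (· + ·) ha hb))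
      right_inv := fun n => by
        rw [map_zsmul]
        erw [FreeAbelianGroup.lift_apply_of]
        exact ULift.ext _ _ (by simp)
      map_add' := map_add _ })
    (fun {V W} f => by
      ext1
      refine FreeAbelianGroup.lift_ext _ _ fun g => ?_
      change FreeAbelianGroup.lift (fun _ => (⟨1⟩ : ULift.{u} ℤ)) (FreeAbelianGroup.map _ (FreeAbelianGroup.of g)) =
        FreeAbelianGroup.lift (fun _ => (⟨1⟩ : ULift.{u} ℤ)) (FreeAbelianGroup.of g)
      rw [FreeAbelianGroup.map_of_apply]
      erw [FreeAbelianGroup.lift_apply_of])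

theorem isIso_gTop : IsIso (gU (⊤ : Opens X)) := by
  have e : gU (⊤ : Opens X) = ((presheafToSheaf J AddCommGrpCat.{u}).mapIso (freeTopPsh (X := X))).hom := by
    refine (homEquiv ⊤ (ZC X)).injective ?_
    rw [gU, AddEquiv.apply_symm_apply]
    show _ = freePshHomEquiv ⊤ _ ((sheafificationAdjunction J AddCommGrpCat.{u}).homEquiv (freePsh ⊤) (ZC X)
      ((presheafToSheaf J AddCommGrpCat.{u}).map (freeTopPsh (X := X)).hom))
    rw [(sheafificationAdjunction J AddCommGrpCat.{u}).homEquiv_unit]
    refine Eq.trans ?_ (congrArg (freePshHomEquiv ⊤ _)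
      ((sheafificationAdjunction J AddCommGrpCat.{u}).unit.naturality (freeTopPsh (X := X)).hom))
    exact congrArg (TopIrr16.cst (ULift.{u} ℤ) ⊤) (FreeAbelianGroup.lift_apply_of _ _).symm
  rw [e]
  infer_instance

instance mono_gU (U : Opens X) : Mono (gU U) := by
  haveI := isIso_gTop (X := X)
  rw [← gU_eq (le_top : U ≤ ⊤)]
  infer_instance

theorem gU_app_self (U : Opens X) {W : Opens X} (h : W ≤ U) (n : ℤ) :
    ∃ t, (gU U).hom.app (op W) t = TopIrr16.cst (ULift.{u} ℤ) W ⟨n⟩ := by
  refine ⟨homEquiv W _ (n • CohCx.freeSheafMap J (homOfLE h)), ?_⟩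
  rw [← homEquiv_postcomp, Preadditive.zsmul_comp, gU_eq, map_zsmul, gU, AddEquiv.apply_symm_apply, ← map_zsmul]
  exact congrArg _ (ULift.ext _ _ (by simp))

/-- The cokernel of a subsheaf which is everything on an open is supported away from it. -/
theorem suppIn_cokernel {F G : CohTop.Ab X} (f : F ⟶ G) (U : Opens X)
    (h : ∀ W : Opens X, W ≤ U → Function.Surjective (f.hom.app (op W))) :
    SuppIn (cokernel f) (U : Set X)ᶜ := by
  intro V hV s
  have hVU : V ≤ U := fun y hy => not_not.1 (Set.disjoint_left.1 hV hy)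
  obtain ⟨S, hS, hlift⟩ := exists_local_lift (cokernel.π f) s
  refine ext_of_cover (cokernel f) (ι := Σ W : Opens X, {i : W ⟶ V // S.arrows i}) (fun i => i.2.1)
    ((J).superset_covering (fun W i hi => Sieve.ofArrows_mk _ _ (⟨W, i, hi⟩ : Σ W : Opens X, {i : W ⟶ V // S.arrows i})) hS)
    fun i => ?_
  obtain ⟨y, hy⟩ := hlift i.2.1 i.2.2
  obtain ⟨z, hz⟩ := h i.1 (i.2.1.le.trans hVU) y
  rw [← hy, map_zero, ← hz]
  exact ConcreteCategory.congr_hom (NatTrans.congr_app (congrArg InducedCategory.Hom.hom (cokernel.condition f)) (op i.1)) z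

section Irreducible

variable [IrreducibleSpace X] (d : ℕ)
  (hsmall : ∀ (G : CohTop.Ab X) (T : Set X), IsClosed T → T ≠ Set.univ → SuppIn G T → ∀ k, d ≤ k →
    Subsingleton (CohTop.H G k))

include hsmall

theorem H_freeSheaf (U : Opens X) (k : ℕ) (hk : d ≤ k) : Subsingleton (CohTop.H (CohCx.freeSheaf J U) (k + 1)) := by
  by_cases hU : (U : Set X).Nonempty
  · refine H_X₁ (cokernel_shortExact (gU U)) k ?_ ?_
    · exact hsmall _ _ U.2.isClosed_compl (fun h => by simpa [Set.nonempty_iff_ne_empty] using hU.ne_empty (Set.compl_univ_iff.1 h))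
        (suppIn_cokernel (gU U) U fun W hW s => by
          obtain ⟨⟨n⟩, rfl⟩ := TopIrr16.cst_surjective (ULift.{u} ℤ) W s
          exact gU_app_self U hW n) k hk
    · haveI := TopIrr16.isFlasque_const (X := X) (ULift.{u} ℤ)
      exact subsingleton_H_of_isFlasque _ k
  · refine H_of_isZero ?_ _
    rw [IsZero.iff_id_eq_zero]
    exact (homEquiv U _).injective (TopIrr16.eq_of_empty _ hU _ _)

/-- Subsheaves of the constant sheaf. -/
theorem H_sub (K : CohTop.Ab X) (ι : K ⟶ ZC X) [Mono ι] (k : ℕ) (hk : d ≤ k) :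
    Subsingleton (CohTop.H K (k + 1)) := by
  classical
  let A : Submodule ℤ ℤ :=
    { carrier := {a | ∃ (W : Opens X), (W : Set X).Nonempty ∧ ∃ s, ι.hom.app (op W) s = TopIrr16.cst (ULift.{u} ℤ) W ⟨a⟩}
      zero_mem' := ⟨⊤, ⟨Classical.arbitrary X, trivial⟩, 0, by rw [map_zero]; exact (map_zero _).symm⟩
      add_mem' := by
        rintro a b ⟨W₁, h₁, s₁, e₁⟩ ⟨W₂, h₂, s₂, e₂⟩
        refine ⟨W₁ ⊓ W₂, nonempty_preirreducible_inter W₁.2 W₂.2 h₁ h₂,
          K.obj.map (homOfLE inf_le_left).op s₁ + K.obj.map (homOfLE inf_le_right).op s₂, ?_⟩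
        rw [map_add, NatTrans.naturality_apply, NatTrans.naturality_apply, e₁, e₂]
        erw [TopIrr16.res_cst, TopIrr16.res_cst, ← map_add]
        rfl
      smul_mem' := by
        rintro c a ⟨W, hW, s, e⟩
        refine ⟨W, hW, c • s, ?_⟩
        rw [map_zsmul, e, ← map_zsmul]
        exact congrArg _ (ULift.ext _ _ (by simp)) }
  obtain ⟨n, hn⟩ := (inferInstance : IsPrincipalIdealRing ℤ).principal A
  by_cases hn0 : n = 0
  · refine H_of_isZero (isZero_of_sections fun V s => ?_) _
    by_cases hV : (V : Set X).Nonempty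
    · obtain ⟨⟨a⟩, ha⟩ := TopIrr16.cst_surjective (ULift.{u} ℤ) V (ι.hom.app (op V) s)
      have : a ∈ A := ⟨V, hV, s, ha.symm⟩
      rw [hn, hn0, Ideal.submodule_span_eq, Ideal.span_singleton_eq_bot.2 rfl, Ideal.mem_bot] at this
      refine sections_injective ι V ?_
      rw [map_zero, ← ha, this]
      exact map_zero _
    · exact TopIrr16.eq_of_empty _ hV _ _
  obtain ⟨V, hV, s, hs⟩ : n ∈ A := hn ▸ Submodule.mem_span_singleton_self n
  let φ := (homEquiv V K).symm s
  have hφ : φ ≫ ι = n • gU V := by
    refine (homEquiv V (ZC X)).injective ?_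
    rw [homEquiv_postcomp, AddEquiv.apply_symm_apply, hs, map_zsmul, gU, AddEquiv.apply_symm_apply, ← map_zsmul]
    exact congrArg _ (ULift.ext _ _ (by simp))
  haveI : Mono φ := by
    have hm : Mono (n • 𝟙 (ZC X)) := Preadditive.mono_of_kernel_zero (by
      refine Sheaf.hom_ext (NatTrans.ext (funext fun W => ?_))
      ext t
      set t' := (kernel.ι (n • 𝟙 (ZC X))).hom.app W t with ht'
      have e : n • t' = 0 := by
        have := ConcreteCategory.congr_hom (NatTrans.congr_app (congrArg InducedCategory.Hom.hom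
          (kernel.condition (n • 𝟙 (ZC X)))) W) t
        simp at this
        exact this
      show t' = 0
      by_cases hW : (W.unop : Set X).Nonempty
      · obtain ⟨⟨a⟩, ha⟩ := TopIrr16.cst_surjective (ULift.{u} ℤ) W.unop t'
        rw [← ha, ← map_zsmul, ← map_zero (TopIrr16.cst (ULift.{u} ℤ) W.unop)] at e
        have := congrArg ULift.down (TopIrr16.cst_injective (ULift.{u} ℤ) W.unop hW e)
        simp only [ULift.smul_down, ULift.zero_down, smul_eq_mul, mul_eq_zero, hn0, false_or] at this
        rw [← ha, this]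
        exact map_zero _
      · exact TopIrr16.eq_of_empty _ hW _ _)
    have : Mono (φ ≫ ι) := by
      rw [hφ, ← Category.comp_id (gU V), ← Preadditive.comp_zsmul]
      infer_instance
    exact mono_of_mono φ ι
  refine H_X₂ (cokernel_shortExact φ) (k + 1) (H_freeSheaf d hsmall V k hk)
    (hsmall _ _ V.2.isClosed_compl (fun h => hV.ne_empty (Set.compl_univ_iff.1 h))
      (suppIn_cokernel φ V fun W hW t => ?_) (k + 1) (hk.trans (Nat.le_succ k)))
  by_cases hWne : (W : Set X).Nonempty
  · obtain ⟨⟨a⟩, ha⟩ := TopIrr16.cst_surjective (ULift.{u} ℤ) W (ι.hom.app (op W) t)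
    have : a ∈ A := ⟨W, hWne, t, ha.symm⟩
    rw [hn] at this
    obtain ⟨c, rfl⟩ := Submodule.mem_span_singleton.1 this
    obtain ⟨z, hz⟩ := gU_app_self V hW c
    refine ⟨z, sections_injective ι W ?_⟩
    rw [← ha]
    show (φ ≫ ι).hom.app (op W) z = _
    rw [hφ]
    show n • (gU V).hom.app (op W) z = _
    rw [hz, ← map_zsmul]
    exact congrArg _ (ULift.ext _ _ (by simp [mul_comm]))
  · exact ⟨0, TopIrr16.eq_of_empty _ hWne _ _⟩

/-- Quotients of free sheaves. -/
theorem H_quot {U : Opens X} {Q : CohTop.Ab X} (q : CohCx.freeSheaf J U ⟶ Q) [Epi q] (k : ℕ) (hk : d ≤ k) :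
    Subsingleton (CohTop.H Q (k + 1)) :=
  H_X₃ (kernel_shortExact q) (k + 1) (H_freeSheaf d hsmall U k hk)
    (H_sub d hsmall _ (kernel.ι q ≫ gU U) (k + 1) (hk.trans (Nat.le_succ k)))

/-- All sheaves on an irreducible Noetherian space. -/
theorem H_irreducible [NoetherianSpace X] (G : CohTop.Ab X) (k : ℕ) (hk : d ≤ k) :
    Subsingleton (CohTop.H G (k + 1)) := by
  classical
  let Ix := Σ U : Opens X, G.obj.obj (op U)
  let f : ∀ i : Ix, CohCx.freeSheaf J i.1 ⟶ G := fun i => (homEquiv i.1 G).symm i.2
  let M : Finset Ix → Subobject G := fun S => S.sup fun i => imageSubobject (f i)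
  have hM : ∀ S, Subsingleton (CohTop.H (M S : CohTop.Ab X) (k + 1)) := by
    intro S
    induction S using Finset.induction_on with
    | empty =>
      refine H_of_isZero ?_ _
      exact IsZero.of_iso (isZero_zero _) (Subobject.botCoeIsoZero)
    | @insert i S hi ih =>
      have hle : M S ≤ M (insert i S) := Finset.sup_mono (Finset.subset_insert i S)
      have hfac : (M (insert i S)).Factors (f i) :=
        Subobject.factors_of_le _ (Finset.le_sup (f := fun j => imageSubobject (f j)) (Finset.mem_insert_self i S))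
          ((Subobject.factors_iff _ _).2 ⟨factorThruImageSubobject (f i), imageSubobject_arrow_comp _⟩)
      let m := Subobject.ofLE _ _ hle
      let q := (M (insert i S)).factorThru (f i) hfac ≫ cokernel.π m
      haveI : Epi q := Preadditive.epi_of_cancel_zero q fun {T} g hg => by
        rw [← cancel_epi (cokernel.π m), comp_zero]
        set h := cokernel.π m ≫ g with hh
        have h1 : (M (insert i S)).factorThru (f i) hfac ≫ h = 0 := by rw [hh, ← Category.assoc]; exact hg
        let N := Subobject.mk (kernel.ι h ≫ (M (insert i S)).arrow)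
        have hS : M S ≤ N := Subobject.le_mk_of_comm (kernel.lift h m (by rw [hh, cokernel.condition_assoc, zero_comp]))
          (by rw [kernel.lift_ι_assoc, Subobject.ofLE_arrow])
        have hi' : imageSubobject (f i) ≤ N :=
          imageSubobject_le_mk _ _ (kernel.lift h _ h1) (by rw [kernel.lift_ι_assoc, Subobject.factorThru_arrow])
        have hall : M (insert i S) ≤ N := by
          show (insert i S).sup _ ≤ N
          rw [Finset.sup_insert]
          exact sup_le hi' hS
        have e : Subobject.ofLE _ _ hall ≫ (Subobject.underlyingIso _).hom ≫ kernel.ι h = 𝟙 _ := by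
          rw [← cancel_mono (M (insert i S)).arrow, Category.assoc, Category.assoc, Category.id_comp,
            Subobject.underlyingIso_hom_comp_eq_mk, Subobject.ofLE_arrow]
        rw [← Category.id_comp h, ← e]
        simp
      exact H_X₂ (cokernel_shortExact m) (k + 1) ih (H_quot d hsmall q k hk)
  have hmono : Monotone M := fun S T h => Finset.sup_mono h
  let F : Finset Ix ⥤ MonoOver G := hmono.functor ⋙ Subobject.representative
  haveI : HasColimitsOfSize.{u, u} (CohTop.Ab X) := IsGrothendieckAbelian.hasColimits.{u} (CohTop.Ab X)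
  haveI : HasColimit (F ⋙ MonoOver.forget G ⋙ Over.forget G) :=
    (HasColimitsOfSize.has_colimits_of_shape (C := CohTop.Ab X) (Finset Ix)).has_colimit _
  let g : colimit (F ⋙ MonoOver.forget G ⋙ Over.forget G) ⟶ G :=
    colimit.desc _ (Cocone.mk G
      { app := fun S => (F.obj S).obj.hom
        naturality := fun S T h => by simp [MonoOver.forget] })
  haveI : Mono g := IsGrothendieckAbelian.mono_of_isColimit_monoOver F (colimit.isColimit _) g (fun S => colimit.ι_desc _ S)
  haveI : Epi g := by
    refine (Sheaf.isLocallySurjective_iff_epi' (A := AddCommGrpCat.{u}) _).1 ⟨fun {V} s => ?_⟩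
    let i : Ix := ⟨V, s⟩
    have hle : imageSubobject (f i) ≤ M {i} :=
      Finset.le_sup (f := fun j => imageSubobject (f j)) (Finset.mem_singleton_self i)
    have hfac : (M {i}).Factors (f i) := Subobject.factors_of_le _ hle
      ((Subobject.factors_iff _ _).2 ⟨factorThruImageSubobject (f i), imageSubobject_arrow_comp _⟩)
    let a : CohCx.freeSheaf J V ⟶ colimit (F ⋙ MonoOver.forget G ⋙ Over.forget G) :=
      (M {i}).factorThru (f i) hfac ≫ colimit.ι (F ⋙ MonoOver.forget G ⋙ Over.forget G) {i}
    have ha : a ≫ g = f i := by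
      have hι : colimit.ι (F ⋙ MonoOver.forget G ⋙ Over.forget G) {i} ≫ g = (F.obj {i}).obj.hom := colimit.ι_desc _ _
      show ((M {i}).factorThru (f i) hfac ≫ colimit.ι (F ⋙ MonoOver.forget G ⋙ Over.forget G) {i}) ≫ g = f i
      refine (Category.assoc _ _ _).trans ((congrArg (fun z => (M {i}).factorThru (f i) hfac ≫ z) hι).trans ?_)
      exact Subobject.factorThru_arrow (M {i}) (f i) hfac
    refine (J).superset_covering (fun W k _ => ?_) ((J).top_mem V)
    refine ⟨(colimit (F ⋙ MonoOver.forget G ⋙ Over.forget G)).obj.map k.op (homEquiv V _ a), ?_⟩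
    rw [NatTrans.naturality_apply, ← homEquiv_postcomp, ha, AddEquiv.apply_symm_apply]
  haveI := isIso_of_mono_of_epi g
  exact H_of_iso (asIso g) (H_colimit (colimit.isColimit _) (k + 1) hM)

end Irreducible

/-- Grothendieck vanishing. -/
theorem subsingleton_H : ∀ (d : ℕ) (X : TopCat.{u}) [NoetherianSpace X], topologicalKrullDim X < (d : ℕ) →
    ∀ (F : CohTop.Ab X) (k : ℕ), d ≤ k → Subsingleton (CohTop.H F k) := by
  intro d
  induction d with
  | zero =>
    intro X _ hX F k _
    refine H_of_isZero (isZero_of_sections fun V s => TopIrr16.eq_of_empty F (fun ⟨x, _⟩ => ?_) s 0) k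
    haveI : Nonempty (IrreducibleCloseds X) := ⟨⟨closure {x}, isIrreducible_singleton.closure, isClosed_closure⟩⟩
    exact not_le.2 hX Order.krullDim_nonneg
  | succ d IH =>
    intro X _ hX F k hk
    obtain ⟨k, rfl⟩ : ∃ j, k = j + 1 := ⟨k - 1, by omega⟩
    have hk' : d ≤ k := by omega
    suffices key : ∀ (Z : Closeds X) (G : CohTop.Ab X), SuppIn G Z → Subsingleton (CohTop.H G (k + 1)) by
      refine key ⊤ F fun V hV s => TopIrr16.eq_of_empty F (fun ⟨x, hx⟩ => Set.disjoint_left.1 hV hx trivial) s 0
    intro Z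
    induction Z using WellFoundedLT.induction with
    | ind Z ih =>
      intro G hG
      rcases (Z : Set X).eq_empty_or_nonempty with hZe | hZne
      · exact H_of_isZero (isZero_of_sections fun V s => hG V (by simp [hZe]) s) _
      by_cases hirr : IsPreirreducible (Z : Set X)
      · refine H_of_suppIn hG Z.2 fun F' => ?_
        haveI : IrreducibleSpace (TopCat.of (Z : Set X)) := Subtype.irreducibleSpace ⟨hZne, hirr⟩
        haveI : NoetherianSpace (TopCat.of (Z : Set X)) := NoetherianSpace.set _
        have hdim : topologicalKrullDim (TopCat.of (Z : Set X)) < ((d + 1 : ℕ) : WithBot ℕ∞) :=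
          lt_of_le_of_lt (topologicalKrullDim_subspace_le X _) hX
        refine H_irreducible d (fun G' T hT hne hG' j hj => H_of_suppIn hG' hT fun F'' => ?_) F' k hk'
        haveI : NoetherianSpace (TopCat.of T) := NoetherianSpace.set _
        exact IH _ (dim_lt hT hne (by exact_mod_cast hdim)) F'' j hj
      · obtain ⟨Z₁, Z₂, hc₁, hc₂, hsub, h₁, h₂⟩ : ∃ Z₁ Z₂ : Set X, IsClosed Z₁ ∧ IsClosed Z₂ ∧
            (Z : Set X) ⊆ Z₁ ∪ Z₂ ∧ ¬ (Z : Set X) ⊆ Z₁ ∧ ¬ (Z : Set X) ⊆ Z₂ := by
          rw [isPreirreducible_iff_isClosed_union_isClosed] at hirr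
          push_neg at hirr
          obtain ⟨z₁, z₂, a, b, c, e, f⟩ := hirr
          exact ⟨z₁, z₂, a, b, c, e, f⟩
        let T₁ : Closeds X := Z ⊓ ⟨Z₁, hc₁⟩
        let T₂ : Closeds X := Z ⊓ ⟨Z₂, hc₂⟩
        have hT₁ : T₁ < Z := lt_of_le_of_ne inf_le_left fun e => h₁ fun z hz => ((SetLike.ext_iff.1 e z).2 hz).2
        have hT₂ : T₂ < Z := lt_of_le_of_ne inf_le_left fun e => h₂ fun z hz => ((SetLike.ext_iff.1 e z).2 hz).2
        haveI := epi_clUnit G T₁.2
        refine H_X₂ (kernel_shortExact (clUnit (T₁ : Set X) G)) (k + 1)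
          (ih T₂ hT₂ (kernel _) fun V hV s => sections_injective (kernel.ι (clUnit (T₁ : Set X) G)) V ?_)
          (ih T₁ hT₁ (clRes (T₁ : Set X) G) fun V hV s => eq_zero_of_disjoint G (Set.disjoint_left.1 hV) s)
        rw [map_zero]
        refine TopCat.Presheaf.section_ext G V _ 0 fun x hx => ?_
        rw [map_zero]
        by_cases hxT : x ∈ (T₁ : Set X)
        · refine germ_eq_zero_of_clUnit (T₁ : Set X) G hx hxT _ ?_
          have hk : (clUnit (T₁ : Set X) G).hom.app (op V) ((kernel.ι (clUnit (T₁ : Set X) G)).hom.app (op V) s) = 0 :=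
            ConcreteCategory.congr_hom (NatTrans.congr_app (congrArg InducedCategory.Hom.hom
              (kernel.condition (clUnit (T₁ : Set X) G))) (op V)) s
          exact (congrArg _ hk).trans (map_zero _)
        · refine germ_eq_zero hG Z.2 hx (fun hz => ?_) _
          rcases hsub hz with h | h
          · exact hxT ⟨hz, h⟩
          · exact Set.disjoint_left.1 hV hx ⟨hz, h⟩

end Groth.Agent.GVan16
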