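import Groth.Agent.GVan16.Main
import Mathlib.Topology.Sheaves.Skyscraper
import Mathlib.Topology.Sober

/-!
# Vanishing above the dimension of the (not necessarily closed) support
-/

set_option autoImplicit false
set_option linter.all false
set_option synthInstance.maxHeartbeats 1000000
set_option maxHeartbeats 2000000

universe u

open CategoryTheory CategoryTheory.Limits CategoryTheory.Abelian Opposite TopologicalSpace
open Groth.Agent.SiteCoh Groth.Agent.SiteCoh.Closed

namespace Groth.Agent.GVan16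

variable {X : TopCat.{u}}

local notation "J" => Opens.grothendieckTopology X

/-- The closure of a locally closed set consists of specializations of its points. -/
theorem exists_specializes [NoetherianSpace X] [QuasiSober X] (U : Opens X) {A : Set X}
    (hA : closure A ∩ U ⊆ A) (hAU : A ⊆ U) {z : X} (hz : z ∈ closure A) : ∃ η ∈ A, η ⤳ z := by
  obtain ⟨S, hSf, hSc, hSi, hSe⟩ :=
    NoetherianSpace.exists_finite_set_isClosed_irreducible (isClosed_closure (s := A))
  classical
  let S' := {T ∈ S | ((T ∩ U : Set X)).Nonempty}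
  have hS' : closure A ⊆ ⋃₀ S' := by
    refine closure_minimal (fun a ha => ?_) (Set.sUnion_eq_biUnion ▸
      (hSf.subset (fun T (hT : T ∈ S') => hT.1)).isClosed_biUnion fun T hT => hSc T hT.1)
    obtain ⟨T, hT, haT⟩ := Set.mem_sUnion.1 (hSe ▸ subset_closure ha)
    exact Set.mem_sUnion.2 ⟨T, ⟨hT, a, haT, hAU ha⟩, haT⟩
  obtain ⟨T, ⟨hT, hTU⟩, hzT⟩ := Set.mem_sUnion.1 (hS' hz)
  obtain ⟨η, hη⟩ := QuasiSober.sober (hSi T hT) (hSc T hT)
  refine ⟨η, hA ⟨?_, ?_⟩, hη.specializes hzT⟩
  · rw [hSe]
    exact Set.mem_sUnion.2 ⟨T, hT, hη.mem⟩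
  · obtain ⟨w, hwT, hwU⟩ := hTU
    exact (hη.specializes hwT).mem_open U.2 hwU

section Chains

attribute [local instance] specializationOrder

theorem dim_le_of_chains {α : Type u} [TopologicalSpace α] [QuasiSober α] [T0Space α]
    (D : WithBot ℕ∞)
    (h : ∀ (n : ℕ) (l : Fin (n + 1) → α), (∀ i j, i < j → l j ⤳ l i ∧ l i ≠ l j) → (n : WithBot ℕ∞) ≤ D) :
    topologicalKrullDim α ≤ D := by
  rw [topologicalKrullDim, Order.krullDim_eq_of_orderIso (irreducibleSetEquivPoints (α := α))]
  exact iSup_le fun l => h l.length l fun i j hij => ⟨(l.strictMono hij).le, (l.strictMono hij).ne⟩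

theorem le_dim_of_chain {α : Type u} [TopologicalSpace α] [QuasiSober α] [T0Space α]
    (n : ℕ) (l : Fin (n + 1) → α) (h : ∀ i j, i < j → l j ⤳ l i ∧ l i ≠ l j) :
    (n : WithBot ℕ∞) ≤ topologicalKrullDim α := by
  rw [topologicalKrullDim, Order.krullDim_eq_of_orderIso (irreducibleSetEquivPoints (α := α))]
  exact Order.LTSeries.length_le_krullDim
    (LTSeries.mk n l fun i j hij => lt_of_le_of_ne (h i j hij).1 (h i j hij).2)

end Chains

/-- A closed set of specializations of points with small closures is small. -/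
theorem dim_le_of_specializes [QuasiSober X] [T0Space X] {Z : Set X} (hZ : IsClosed Z) (r : ℕ)
    (h : ∀ z ∈ Z, ∃ η, η ⤳ z ∧ topologicalKrullDim (closure {η} : Set X) ≤ r) :
    topologicalKrullDim Z ≤ r := by
  haveI : QuasiSober Z := hZ.isClosedEmbedding_subtypeVal.quasiSober
  refine dim_le_of_chains _ fun n l hl => ?_
  obtain ⟨η, hη, hd⟩ := h (l (Fin.last n)) (l (Fin.last n)).2
  haveI : QuasiSober ↥(closure ({η} : Set X)) := isClosed_closure.isClosedEmbedding_subtypeVal.quasiSober
  refine le_trans ?_ hd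
  have hmem : ∀ i, (l i : X) ∈ closure ({η} : Set X) := fun i => by
    refine specializes_iff_mem_closure.1 (hη.trans ?_)
    rcases eq_or_lt_of_le (Fin.le_last i) with hi | hi
    · rw [hi]
    · exact (hl _ _ hi).1.map continuous_subtype_val
  exact le_dim_of_chain n (fun i => ⟨l i, hmem i⟩) fun i j hij =>
    ⟨(subtype_specializes_iff _ _).2 ((hl i j hij).1.map continuous_subtype_val),
      fun e => (hl i j hij).2 (Subtype.ext (Subtype.mk.inj e))⟩

/-- A sheaf is the colimit of its finitely generated subsheaves. -/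
theorem H_of_finitely_generated [NoetherianSpace X] (G : CohTop.Ab X) (k : ℕ)
    (hM : ∀ S : Finset (Σ U : Opens X, G.obj.obj (op U)), Subsingleton (CohTop.H
      ((S.sup fun i => imageSubobject ((homEquiv i.1 G).symm i.2) : Subobject G) : CohTop.Ab X) k)) :
    Subsingleton (CohTop.H G k) := by
  classical
  let Ix := Σ U : Opens X, G.obj.obj (op U)
  let f : ∀ i : Ix, CohCx.freeSheaf J i.1 ⟶ G := fun i => (homEquiv i.1 G).symm i.2
  let M : Finset Ix → Subobject G := fun S => S.sup fun i => imageSubobject (f i)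
  have hmono : Monotone M := fun S T h => Finset.sup_mono h
  let F : Finset Ix ⥤ MonoOver G := hmono.functor ⋙ Subobject.representative
  haveI : HasColimitsOfSize.{u, u} (CohTop.Ab X) := IsGrothendieckAbelian.hasColimits.{u} (CohTop.Ab X)
  haveI : HasColimit (F ⋙ MonoOver.forget G ⋙ Over.forget G) :=
    (HasColimitsOfSize.has_colimits_of_shape (C := CohTop.Ab X) (Finset Ix)).has_colimit _
  let g : colimit (F ⋙ MonoOver.forget G ⋙ Over.forget G) ⟶ G :=
    colimit.desc _ (Cocone.mk G
      { app := fun S => (F.obj S).obj.hom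
        naturality := fun S T h => by simp [MonoOver.forget] })
  haveI : Mono g := IsGrothendieckAbelian.mono_of_isColimit_monoOver F (colimit.isColimit _) g (fun S => colimit.ι_desc _ S)
  haveI : Epi g := by
    refine (Sheaf.isLocallySurjective_iff_epi' (A := AddCommGrpCat.{u}) _).1 ⟨fun {V} s => ?_⟩
    let i : Ix := ⟨V, s⟩
    have hle : imageSubobject (f i) ≤ M {i} :=
      Finset.le_sup (f := fun j => imageSubobject (f j)) (Finset.mem_singleton_self i)
    have hfac : (M {i}).Factors (f i) := Subobject.factors_of_le _ hle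
      ((Subobject.factors_iff _ _).2 ⟨factorThruImageSubobject (f i), imageSubobject_arrow_comp _⟩)
    let a : CohCx.freeSheaf J V ⟶ colimit (F ⋙ MonoOver.forget G ⋙ Over.forget G) :=
      (M {i}).factorThru (f i) hfac ≫ colimit.ι (F ⋙ MonoOver.forget G ⋙ Over.forget G) {i}
    have ha : a ≫ g = f i := by
      have hι : colimit.ι (F ⋙ MonoOver.forget G ⋙ Over.forget G) {i} ≫ g = (F.obj {i}).obj.hom := colimit.ι_desc _ _
      show ((M {i}).factorThru (f i) hfac ≫ colimit.ι (F ⋙ MonoOver.forget G ⋙ Over.forget G) {i}) ≫ g = f i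
      refine (Category.assoc _ _ _).trans ((congrArg (fun z => (M {i}).factorThru (f i) hfac ≫ z) hι).trans ?_)
      exact Subobject.factorThru_arrow (M {i}) (f i) hfac
    refine (J).superset_covering (fun W k _ => ?_) ((J).top_mem V)
    refine ⟨(colimit (F ⋙ MonoOver.forget G ⋙ Over.forget G)).obj.map k.op (homEquiv V _ a), ?_⟩
    rw [NatTrans.naturality_apply, ← homEquiv_postcomp, ha, AddEquiv.apply_symm_apply]
  haveI := isIso_of_mono_of_epi g
  exact H_of_iso (asIso g) (H_colimit (colimit.isColimit _) k hM)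

/-- Sections of a subsheaf generated by sections vanishing near a point vanish near it. -/
theorem germ_sup_eq_zero (G : CohTop.Ab X) (S : Finset (Σ U : Opens X, G.obj.obj (op U))) (x : X)
    (h : ∀ i ∈ S, ∀ hx : x ∈ i.1, TopCat.Presheaf.germ G.obj i.1 x hx i.2 = 0) {V : Opens X} (hV : x ∈ V)
    (t : ((S.sup fun i => imageSubobject ((homEquiv i.1 G).symm i.2) : Subobject G) : CohTop.Ab X).obj.obj (op V)) :
    TopCat.Presheaf.germ G.obj V x hV
      ((S.sup fun i => imageSubobject ((homEquiv i.1 G).symm i.2) : Subobject G).arrow.hom.app (op V) t) = 0 := by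
  classical
  let M : Subobject G := S.sup fun i => imageSubobject ((homEquiv i.1 G).symm i.2)
  obtain ⟨Sk, η, hη, hoff⟩ : ∃ (Sk : CohTop.Ab X) (η : G ⟶ Sk),
      (∀ (U : Opens X) (hU : x ∈ U) (s : G.obj.obj (op U)),
        η.hom.app (op U) s = 0 ↔ TopCat.Presheaf.germ G.obj U x hU s = 0) ∧
      ∀ (U : Opens X), x ∉ U → Subsingleton (Sk.obj.obj (op U) : Type u) := by
    refine ⟨(skyscraperSheafFunctor x).obj (TopCat.Presheaf.stalk G.obj x),
      (stalkSkyscraperSheafAdjunction (C := AddCommGrpCat.{u}) x).unit.app G, fun U hU s => ?_, fun U hU => ?_⟩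
    · let e : TopCat.Presheaf.stalk G.obj x ≅
          (skyscraperPresheaf x (TopCat.Presheaf.stalk G.obj x)).obj (op U) := eqToIso (if_pos hU).symm
      have he : ((stalkSkyscraperSheafAdjunction (C := AddCommGrpCat.{u}) x).unit.app G).hom.app (op U) =
          TopCat.Presheaf.germ G.obj U x hU ≫ e.hom := by
        refine Eq.trans ?_ (congrArg _ (Category.id_comp _))
        exact dif_pos hU
      rw [he]
      refine ⟨fun h0 => e.addCommGroupIsoToAddEquiv.injective (h0.trans (map_zero _).symm), fun h0 => ?_⟩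
      show e.hom (TopCat.Presheaf.germ G.obj U x hU s) = 0
      rw [h0, map_zero]
    · have ht : IsTerminal ((skyscraperPresheaf x (TopCat.Presheaf.stalk G.obj x)).obj (op U)) :=
        IsTerminal.ofIso terminalIsTerminal (eqToIso (if_neg hU).symm)
      exact AddCommGrpCat.subsingleton_of_isZero ((IsZero.iff_id_eq_zero _).2 (ht.hom_ext _ _))
  have hle : M ≤ kernelSubobject η := Finset.sup_le fun i hi => by
    refine imageSubobject_le _ (factorThruKernelSubobject η _ ?_) (factorThruKernelSubobject_comp_arrow _ _ _)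
    refine (homEquiv i.1 _).injective ?_
    rw [map_zero, homEquiv_postcomp, AddEquiv.apply_symm_apply]
    by_cases hx : x ∈ i.1
    · exact (hη i.1 hx i.2).2 (h i hi hx)
    · haveI := hoff i.1 hx
      exact Subsingleton.elim _ _
  have hz : M.arrow ≫ η = 0 := by
    rw [← Subobject.ofLE_arrow hle, Category.assoc, kernelSubobject_arrow_comp, comp_zero]
  exact (hη V hV _).1 (ConcreteCategory.congr_hom (NatTrans.congr_app (congrArg InducedCategory.Hom.hom hz) (op V)) t)

/-- **Vanishing above the dimension of the support.** -/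
theorem subsingleton_H_of_small_support [NoetherianSpace X] [QuasiSober X] [T0Space X] (G : CohTop.Ab X) (r : ℕ)
    (hG : ∀ (U : Opens X) (x : X) (hx : x ∈ U) (s : G.obj.obj (op U)),
      TopCat.Presheaf.germ G.obj U x hx s ≠ 0 → topologicalKrullDim (closure {x} : Set X) ≤ r)
    (p : ℕ) (hp : r < p) : Subsingleton (CohTop.H G p) := by
  classical
  refine H_of_finitely_generated G p fun S => ?_
  let A : (Σ U : Opens X, G.obj.obj (op U)) → Set X := fun i =>
    {x | ∃ hx : x ∈ i.1, TopCat.Presheaf.germ G.obj i.1 x hx i.2 ≠ 0}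
  let Z : Set X := ⋃ i ∈ S, closure (A i)
  have hZ : IsClosed Z := isClosed_biUnion_finset fun i _ => isClosed_closure
  have hd : topologicalKrullDim Z ≤ r := dim_le_of_specializes hZ r fun z hz => by
    obtain ⟨i, hi, hzi⟩ := Set.mem_iUnion₂.1 hz
    have hA : closure (A i) ∩ i.1 ⊆ A i := by
      rintro y ⟨hy, hyU⟩
      by_contra hc
      have h0 : TopCat.Presheaf.germ G.obj i.1 y hyU i.2 = 0 := not_not.1 fun h => hc ⟨hyU, h⟩
      obtain ⟨W, hyW, j₁, j₂, hW⟩ := TopCat.Presheaf.germ_eq G.obj y hyU hyU i.2 0 (h0.trans (map_zero _).symm)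
      rw [map_zero] at hW
      obtain ⟨a, haW, haU, ha⟩ := mem_closure_iff.1 hy W W.2 hyW
      refine ha ?_
      rw [← TopCat.Presheaf.germ_res_apply G.obj j₁ a haW i.2, hW, map_zero]
    obtain ⟨η, ⟨hηU, hη⟩, hηz⟩ := exists_specializes i.1 hA (fun a ha => ha.1) hzi
    exact ⟨η, hηz, hG _ _ hηU _ hη⟩
  refine H_of_suppIn (Z := Z) (fun V hV t => ?_) hZ fun F' => ?_
  · let M : Subobject G := S.sup fun i => imageSubobject ((homEquiv i.1 G).symm i.2)
    refine sections_injective M.arrow V ?_
    rw [map_zero]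
    refine TopCat.Presheaf.section_ext G V _ 0 fun x hx => ?_
    rw [map_zero]
    refine germ_sup_eq_zero G S x (fun i hi hxi => not_not.1 fun hne => ?_) hx t
    exact Set.disjoint_left.1 hV hx (Set.mem_iUnion₂.2 ⟨i, hi, subset_closure ⟨hxi, hne⟩⟩)
  · haveI : NoetherianSpace (TopCat.of Z) := NoetherianSpace.set _
    exact subsingleton_H (r + 1) (TopCat.of Z) (lt_of_le_of_lt hd (by exact_mod_cast Nat.lt_succ_self r)) F' p hp

end Groth.Agent.GVan16
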