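import Groth.Prelude.Def_CohTop
import Groth.Agent.SiteCoh.ClosedPiece
import Groth.Agent.SiteCoh.Leray
import Groth.Agent.SiteCoh.Basics
import Groth.Agent.FlatMorStrat.QcqsColim
import Mathlib.CategoryTheory.Abelian.GrothendieckCategory.Subobject
import Mathlib.Topology.KrullDimension

/-!
# Tools for Grothendieck's vanishing theorem on Noetherian spaces
-/

set_option autoImplicit false
set_option linter.all false

universe u

open CategoryTheory CategoryTheory.Limits CategoryTheory.Abelian Opposite TopologicalSpace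
open Groth.Agent.SiteCoh Groth.Agent.SiteCoh.Closed

namespace Groth.Agent.GVan16

variable {X : TopCat.{u}}

section Dim

theorem dim_mono {Y : Type*} [TopologicalSpace Y] {S T : Set Y} (h : S ⊆ T) :
    topologicalKrullDim S ≤ topologicalKrullDim T :=
  (Topology.IsEmbedding.inclusion h).isInducing.topologicalKrullDim_le

/-- A proper closed subset of an irreducible space has smaller dimension. -/
theorem dim_lt {Y : Type*} [TopologicalSpace Y] [IrreducibleSpace Y] {T : Set Y} (hT : IsClosed T)
    (hne : T ≠ Set.univ) {r : ℕ} (hr : topologicalKrullDim Y < (r : ℕ) + 1) : topologicalKrullDim T < r := by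
  let top : IrreducibleCloseds Y := ⟨Set.univ, IrreducibleSpace.isIrreducible_univ Y, isClosed_univ⟩
  have hi : Topology.IsInducing (Subtype.val : T → Y) := Topology.IsInducing.subtypeVal
  let F : IrreducibleCloseds T → IrreducibleCloseds Y := IrreducibleCloseds.map _ hi.continuous
  have hF : StrictMono F := IrreducibleCloseds.map_strictMono_of_isInducing hi
  have hlt : ∀ A, F A < top := fun A => by
    refine lt_of_le_of_ne (fun z _ => trivial) fun h => hne (Set.eq_univ_iff_forall.2 fun y => ?_)
    have hy : y ∈ (F A : Set Y) := by rw [h]; trivial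
    exact closure_minimal (by rintro _ ⟨t, _, rfl⟩; exact t.2) hT hy
  have key : ∀ p : LTSeries (IrreducibleCloseds T), p.length + 1 ≤ r := by
    intro p
    have h1 := lt_of_le_of_lt (Order.LTSeries.length_le_krullDim ((p.map F hF).snoc top (hlt _))) hr
    rw [RelSeries.snoc_length, LTSeries.map_length] at h1
    exact Nat.lt_succ_iff.1 (by exact_mod_cast h1)
  rcases r with _ | r
  · have : IsEmpty (IrreducibleCloseds T) := ⟨fun A => by simpa using key (RelSeries.singleton _ A)⟩
    show Order.krullDim _ < _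
    rw [Order.krullDim_eq_bot]
    exact WithBot.bot_lt_coe _
  · refine lt_of_le_of_lt (b := ((r : ℕ) : WithBot ℕ∞)) ?_ (by exact_mod_cast Nat.lt_succ_self r)
    exact iSup_le fun p => by exact_mod_cast Nat.le_of_succ_le_succ (key p)

end Dim

section Sequences

variable {S : ShortComplex (CohTop.Ab X)} (hS : S.ShortExact)

include hS in
theorem H_X₂ (n : ℕ) (h₁ : Subsingleton (CohTop.H S.X₁ n)) (h₃ : Subsingleton (CohTop.H S.X₃ n)) :
    Subsingleton (CohTop.H S.X₂ n) := by
  refine subsingleton_of_forall_eq 0 fun x => ?_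
  obtain ⟨y, hy⟩ := Ext.covariant_sequence_exact₂ _ hS x (h₃.elim _ _)
  rw [← hy, h₁.elim y 0, Ext.zero_comp]

include hS in
theorem H_X₃ (n : ℕ) (h₂ : Subsingleton (CohTop.H S.X₂ n)) (h₁ : Subsingleton (CohTop.H S.X₁ (n + 1))) :
    Subsingleton (CohTop.H S.X₃ n) := by
  refine subsingleton_of_forall_eq 0 fun x => ?_
  obtain ⟨y, hy⟩ := Ext.covariant_sequence_exact₃ _ hS x rfl (h₁.elim _ _)
  rw [← hy, h₂.elim y 0, Ext.zero_comp]

include hS in
theorem H_X₁ (n : ℕ) (h₃ : Subsingleton (CohTop.H S.X₃ n)) (h₂ : Subsingleton (CohTop.H S.X₂ (n + 1))) :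
    Subsingleton (CohTop.H S.X₁ (n + 1)) := by
  refine subsingleton_of_forall_eq 0 fun x => ?_
  obtain ⟨y, hy⟩ := Ext.covariant_sequence_exact₁ _ hS x (h₂.elim _ _) rfl
  rw [← hy, h₃.elim y 0, Ext.zero_comp]

end Sequences

theorem H_of_iso {F G : CohTop.Ab X} (e : F ≅ G) {n : ℕ} (h : Subsingleton (CohTop.H F n)) :
    Subsingleton (CohTop.H G n) := by
  refine subsingleton_of_forall_eq 0 fun x => ?_
  have : (x.comp (Ext.mk₀ e.inv) (add_zero n)).comp (Ext.mk₀ e.hom) (add_zero n) = x := by simp
  rw [← this, h.elim (x.comp _ _) 0, Ext.zero_comp]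

theorem H_of_isZero {F : CohTop.Ab X} (h : IsZero F) (n : ℕ) : Subsingleton (CohTop.H F n) := by
  refine subsingleton_of_forall_eq 0 fun x => ?_
  rw [← Ext.comp_mk₀_id x, h.eq_of_src (𝟙 F) 0, Ext.mk₀_zero, Ext.comp_zero]

theorem isZero_of_sections {F : CohTop.Ab X} (h : ∀ (V : Opens X) (s : F.obj.obj (op V)), s = 0) : IsZero F := by
  rw [IsZero.iff_id_eq_zero]
  refine Sheaf.hom_ext (NatTrans.ext (funext fun V => ?_))
  ext s
  exact h V.unop s

/-- Short exact sequence of a monomorphism. -/
theorem cokernel_shortExact {F G : CohTop.Ab X} (f : F ⟶ G) [Mono f] :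
    (ShortComplex.mk f (cokernel.π f) (cokernel.condition f)).ShortExact :=
  { exact := ShortComplex.exact_of_g_is_cokernel _ (cokernelIsCokernel f) }

/-- Short exact sequence of an epimorphism. -/
theorem kernel_shortExact {F G : CohTop.Ab X} (f : F ⟶ G) [Epi f] :
    (ShortComplex.mk (kernel.ι f) f (kernel.condition f)).ShortExact :=
  { exact := ShortComplex.exact_of_f_is_kernel _ (kernelIsKernel f) }

/-- The sheaf has no sections away from the set. -/
def SuppIn (G : CohTop.Ab X) (Z : Set X) : Prop :=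
  ∀ V : Opens X, Disjoint (V : Set X) Z → ∀ s : G.obj.obj (op V), s = 0

theorem germ_eq_zero {G : CohTop.Ab X} {Z : Set X} (hG : SuppIn G Z) (hZ : IsClosed Z) {V : Opens X} {x : X}
    (hx : x ∈ V) (hxZ : x ∉ Z) (s : G.obj.obj (op V)) : TopCat.Presheaf.germ G.obj V x hx s = 0 := by
  let W : Opens X := ⟨(V : Set X) ∩ Zᶜ, V.2.inter hZ.isOpen_compl⟩
  have hxW : x ∈ W := ⟨hx, hxZ⟩
  refine (TopCat.Presheaf.germ_res_apply G.obj (homOfLE (show W ≤ V from Set.inter_subset_left)) x hxW s).symm.trans ?_
  exact (congrArg _ (hG W (Set.disjoint_left.2 fun y (hy : y ∈ (V : Set X) ∩ Zᶜ) hyZ => hy.2 hyZ) _)).trans (map_zero _)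

/-- A supported sheaf is pushed forward from its support. -/
theorem isIso_clUnit {G : CohTop.Ab X} {Z : Set X} (hG : SuppIn G Z) (hZ : IsClosed Z) : IsIso (clUnit Z G) := by
  haveI := epi_clUnit G hZ
  haveI : Mono (clUnit Z G) := Preadditive.mono_of_kernel_zero (by
    refine Sheaf.hom_ext (NatTrans.ext (funext fun V => ?_))
    ext k
    refine TopCat.Presheaf.section_ext G V.unop _ 0 fun x hx => ?_
    rw [map_zero]
    by_cases hxZ : x ∈ Z
    · refine germ_eq_zero_of_clUnit Z G hx hxZ _ ?_
      have hk : (clUnit Z G).hom.app V ((kernel.ι (clUnit Z G)).hom.app V k) = 0 :=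
        ConcreteCategory.congr_hom (NatTrans.congr_app (congrArg InducedCategory.Hom.hom
          (kernel.condition (clUnit Z G))) V) k
      exact (congrArg _ hk).trans (map_zero _)
    · exact germ_eq_zero hG hZ hx hxZ _)
  exact isIso_of_mono_of_epi _

/-- Vanishing for supported sheaves from vanishing on the support. -/
theorem H_of_suppIn {G : CohTop.Ab X} {Z : Set X} (hG : SuppIn G Z) (hZ : IsClosed Z) {n : ℕ}
    (h : ∀ F : CohTop.Ab (TopCat.of Z), Subsingleton (CohTop.H F n)) : Subsingleton (CohTop.H G n) := by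
  have hf : Topology.IsClosedEmbedding (incl Z) := hZ.isClosedEmbedding_subtypeVal
  haveI := isIso_clUnit hG hZ
  refine H_of_iso (asIso (clUnit Z G)).symm ?_
  exact @Equiv.subsingleton _ _ (hPushEquiv (incl Z) (isZero_rpush_of_isClosedEmbedding (incl Z) hf (clPull Z G)) n).symm.toEquiv
    (h (clPull Z G))

/-- A class is carried by a stage of a filtered colimit. -/
theorem H_colimit [NoetherianSpace X] {Λ : Type u} [SmallCategory Λ] [IsFiltered Λ] {D : Λ ⥤ CohTop.Ab X}
    {c : Cocone D} (hc : IsColimit c) (n : ℕ) (h : ∀ j, Subsingleton (CohTop.H (D.obj j) n)) :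
    Subsingleton (CohTop.H c.pt n) := by
  haveI := FlatMorStrat.preservesFilteredColimits_H (T := X) Λ n
  refine subsingleton_of_forall_eq 0 fun x => ?_
  obtain ⟨j, y, hy⟩ := Concrete.isColimit_exists_rep (D ⋙ Sheaf.functorH (Opens.grothendieckTopology X) n)
    (isColimitOfPreserves (Sheaf.functorH (Opens.grothendieckTopology X) n) hc) x
  rw [← hy]
  have : y = 0 := @Subsingleton.elim _ (h j) y 0
  rw [this, map_zero]
  rfl

end Groth.Agent.GVan16
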